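import Mathlib
import Groth.Agent.TorLib.Basic

/-! `Tor_1` computed in the second variable. -/

open TensorProduct CategoryTheory

namespace Groth.Agent.TFCurvTorLib

universe u

variable {R : Type u} [CommRing R]
variable {K F P : Type u} [AddCommGroup K] [Module R K] [AddCommGroup F] [Module R F]
  [AddCommGroup P] [Module R P] (ι : K →ₗ[R] F) (π : F →ₗ[R] P)
variable {A B C : Type u} [AddCommGroup A] [Module R A] [AddCommGroup B] [Module R B]
  [AddCommGroup C] [Module R C] (f : A →ₗ[R] B) (q : B →ₗ[R] C)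

lemma comm_sq (t : K ⊗[R] A) : f.lTensor F (ι.rTensor A t) = ι.rTensor B (f.lTensor K t) := by
  rw [← LinearMap.comp_apply, ← LinearMap.comp_apply, LinearMap.lTensor_comp_rTensor,
    LinearMap.rTensor_comp_lTensor]

lemma comm_sq' (t : F ⊗[R] A) : f.lTensor P (π.rTensor A t) = π.rTensor B (f.lTensor F t) :=
  comm_sq π f t

lemma ker_lTensor_equiv_ker_rTensor (hι : Function.Injective ι) (hπ : Function.Surjective π)
    (hex : Function.Exact ι π) [Module.Flat R F] (hf : Function.Injective f)
    (hq : Function.Surjective q) (hfq : Function.Exact f q) [Module.Flat R B] :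
    Nonempty (LinearMap.ker (ι.rTensor C) ≃ₗ[R] LinearMap.ker (f.lTensor P)) := by
  let W : Submodule R ((K ⊗[R] B) × (F ⊗[R] A)) :=
    LinearMap.ker ((ι.rTensor B).comp (LinearMap.fst R _ _) - (f.lTensor F).comp (LinearMap.snd R _ _))
  have hW : ∀ w : W, ι.rTensor B w.1.1 = f.lTensor F w.1.2 := fun w => sub_eq_zero.mp w.2
  let α : W →ₗ[R] LinearMap.ker (ι.rTensor C) :=
    ((q.lTensor K).comp ((LinearMap.fst R _ _).comp W.subtype)).codRestrict _ fun w => by
      change ι.rTensor C (q.lTensor K w.1.1) = 0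
      rw [← comm_sq, hW w, ← LinearMap.comp_apply, ← LinearMap.lTensor_comp, hfq.linearMap_comp_eq_zero]
      simp
  let β : W →ₗ[R] LinearMap.ker (f.lTensor P) :=
    ((π.rTensor A).comp ((LinearMap.snd R _ _).comp W.subtype)).codRestrict _ fun w => by
      change f.lTensor P (π.rTensor A w.1.2) = 0
      rw [comm_sq, ← hW w, ← LinearMap.comp_apply, ← LinearMap.rTensor_comp, hex.linearMap_comp_eq_zero]
      simp
  have hα : Function.Surjective α := by
    rintro ⟨t, ht⟩
    obtain ⟨z, rfl⟩ := LinearMap.lTensor_surjective K hq t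
    have h0 : q.lTensor F (ι.rTensor B z) = 0 := by rw [comm_sq]; exact ht
    obtain ⟨u, hu⟩ := ((lTensor_exact F hfq hq) _).mp h0
    exact ⟨⟨(z, u), sub_eq_zero.mpr hu.symm⟩, rfl⟩
  have hβ : Function.Surjective β := by
    rintro ⟨t, ht⟩
    obtain ⟨u, rfl⟩ := LinearMap.rTensor_surjective A hπ t
    have h0 : π.rTensor B (f.lTensor F u) = 0 := by rw [← comm_sq]; exact ht
    obtain ⟨z, hz⟩ := ((rTensor_exact B hex hπ) _).mp h0
    exact ⟨⟨(z, u), sub_eq_zero.mpr hz⟩, rfl⟩
  have hker : LinearMap.ker α = LinearMap.ker β := by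
    ext w
    constructor
    · intro h
      have h' : q.lTensor K w.1.1 = 0 := congrArg Subtype.val (LinearMap.mem_ker.mp h)
      obtain ⟨v, hv⟩ := ((lTensor_exact K hfq hq) _).mp h'
      have hu : w.1.2 = ι.rTensor A v :=
        Module.Flat.lTensor_preserves_injective_linearMap f hf (by rw [comm_sq, hv, hW w])
      refine LinearMap.mem_ker.mpr (Subtype.ext ?_)
      change π.rTensor A w.1.2 = 0
      rw [hu, ← LinearMap.comp_apply, ← LinearMap.rTensor_comp, hex.linearMap_comp_eq_zero]
      simp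
    · intro h
      have h' : π.rTensor A w.1.2 = 0 := congrArg Subtype.val (LinearMap.mem_ker.mp h)
      obtain ⟨v, hv⟩ := ((rTensor_exact A hex hπ) _).mp h'
      have hz : w.1.1 = f.lTensor K v :=
        Module.Flat.rTensor_preserves_injective_linearMap ι hι (by rw [← comm_sq, hv, hW w])
      refine LinearMap.mem_ker.mpr (Subtype.ext ?_)
      change q.lTensor K w.1.1 = 0
      rw [hz, ← LinearMap.comp_apply, ← LinearMap.lTensor_comp, hfq.linearMap_comp_eq_zero]
      simp
  exact ⟨(α.quotKerEquivOfSurjective hα).symm ≪≫ₗ Submodule.quotEquivOfEq _ _ hker ≪≫ₗ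
    β.quotKerEquivOfSurjective hβ⟩

lemma ker_rTensor_equiv_of_lTensor_injective (hι : Function.Injective ι) (hπ : Function.Surjective π)
    (hex : Function.Exact ι π) [Module.Flat R F] [Module.Flat R A] (hf : Function.Injective f)
    (hq : Function.Surjective q) (hfq : Function.Exact f q) (hPf : Function.Injective (f.lTensor P)) :
    Nonempty (LinearMap.ker (ι.rTensor B) ≃ₗ[R] LinearMap.ker (ι.rTensor C)) := by
  let g : LinearMap.ker (ι.rTensor B) →ₗ[R] LinearMap.ker (ι.rTensor C) :=
    (q.lTensor K).restrict fun t ht => by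
      change ι.rTensor C (q.lTensor K t) = 0
      rw [← comm_sq, show ι.rTensor B t = 0 from ht, map_zero]
  refine ⟨LinearEquiv.ofBijective g ⟨(injective_iff_map_eq_zero g).mpr fun t h => ?_, ?_⟩⟩
  · have h' : q.lTensor K t.1 = 0 := congrArg Subtype.val h
    obtain ⟨v, hv⟩ := ((lTensor_exact K hfq hq) _).mp h'
    have h1 : ι.rTensor A v = 0 := by
      apply Module.Flat.lTensor_preserves_injective_linearMap (M := F) f hf
      rw [comm_sq, hv, map_zero]
      exact t.2
    have hv0 : v = 0 := Module.Flat.rTensor_preserves_injective_linearMap ι hι (by rw [h1, map_zero])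
    exact Subtype.ext (by rw [← hv, hv0, map_zero]; rfl)
  · rintro ⟨s, hs⟩
    obtain ⟨z, rfl⟩ := LinearMap.lTensor_surjective K hq s
    have h0 : q.lTensor F (ι.rTensor B z) = 0 := by rw [comm_sq]; exact hs
    obtain ⟨u, hu⟩ := ((lTensor_exact F hfq hq) _).mp h0
    have hv : π.rTensor A u = 0 := hPf (by
      rw [comm_sq, hu, map_zero, ← LinearMap.comp_apply, ← LinearMap.rTensor_comp,
        hex.linearMap_comp_eq_zero]
      simp)
    obtain ⟨v, rfl⟩ := ((rTensor_exact A hex hπ) _).mp hv
    refine ⟨⟨z - f.lTensor K v, ?_⟩, Subtype.ext ?_⟩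
    · rw [LinearMap.mem_ker, map_sub, ← comm_sq, hu, sub_self]
    · change q.lTensor K (z - f.lTensor K v) = q.lTensor K z
      rw [map_sub, ← LinearMap.comp_apply (q.lTensor K), ← LinearMap.lTensor_comp, hfq.linearMap_comp_eq_zero]
      simp

/-- An abstract kernel. -/
theorem exists_kernel {F P : Type u} [AddCommGroup F] [Module R F] [AddCommGroup P] [Module R P]
    (π : F →ₗ[R] P) : ∃ (K : Type u) (_ : AddCommGroup K) (_ : Module R K) (ι : K →ₗ[R] F),
      Function.Injective ι ∧ Function.Exact ι π :=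
  ⟨LinearMap.ker π, inferInstance, inferInstance, (LinearMap.ker π).subtype, Subtype.val_injective,
    LinearMap.exact_subtype_ker_map π⟩

/-- The free cover of a module. -/
noncomputable abbrev freeCover (P : Type u) [AddCommGroup P] [Module R P] : (P →₀ R) →ₗ[R] P :=
  Finsupp.linearCombination R id

theorem nonempty_tor_equiv_ker_lTensor (P : Type u) [AddCommGroup P] [Module R P]
    (f : A →ₗ[R] B) (q : B →ₗ[R] C) (hf : Function.Injective f)
    (hq : Function.Surjective q) (hfq : Function.Exact f q) [Module.Flat R B] :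
    Nonempty (DRing.Tor R 1 P C ≃ₗ[R] LinearMap.ker (f.lTensor P)) := by
  have hπ : Function.Surjective (freeCover (R := R) P) := fun p => ⟨Finsupp.single p 1, by simp⟩
  obtain ⟨K, _, _, ι, hι, hex⟩ := exists_kernel (freeCover (R := R) P)
  obtain ⟨e⟩ := ker_lTensor_equiv_ker_rTensor ι (freeCover (R := R) P) f q hι hπ hex hf hq hfq
  exact ⟨(Groth.Agent.TorLib.torOneEquivKer ι (freeCover (R := R) P) C hι hπ hex).trans e⟩

theorem nonempty_tor_equiv_tor_of_injective (P : Type u) [AddCommGroup P] [Module R P]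
    (f : A →ₗ[R] B) (q : B →ₗ[R] C) (hf : Function.Injective f)
    (hq : Function.Surjective q) (hfq : Function.Exact f q) [Module.Flat R A]
    (hPf : Function.Injective (f.lTensor P)) :
    Nonempty (DRing.Tor R 1 P B ≃ₗ[R] DRing.Tor R 1 P C) := by
  have hπ : Function.Surjective (freeCover (R := R) P) := fun p => ⟨Finsupp.single p 1, by simp⟩
  obtain ⟨K, _, _, ι, hι, hex⟩ := exists_kernel (freeCover (R := R) P)
  obtain ⟨e⟩ := ker_rTensor_equiv_of_lTensor_injective ι (freeCover (R := R) P) f q hι hπ hex hf hq hfq hPf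
  exact ⟨(Groth.Agent.TorLib.torOneEquivKer ι (freeCover (R := R) P) B hι hπ hex).trans
    (e.trans (Groth.Agent.TorLib.torOneEquivKer ι (freeCover (R := R) P) C hι hπ hex).symm)⟩

/-- An injection with finite length cokernel divides a nonzero scalar. -/
theorem exists_scalar [IsDomain R] [IsNoetherianRing R] [IsLocalRing R]
    (hnf : IsLocalRing.maximalIdeal R ≠ ⊥) {X Y : Type u} [AddCommGroup X] [Module R X]
    [AddCommGroup Y] [Module R Y] [Module.Finite R Y] (f : X →ₗ[R] Y) (hf : Function.Injective f)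
    (hT : IsFiniteLength R (Y ⧸ LinearMap.range f)) :
    ∃ c : R, c ≠ 0 ∧ ∃ h : Y →ₗ[R] X, f.comp h = c • LinearMap.id ∧ h.comp f = c • LinearMap.id := by
  obtain ⟨hN, hA⟩ := isFiniteLength_iff_isNoetherian_isArtinian.mp hT
  let m := IsLocalRing.maximalIdeal R
  obtain ⟨k, hk⟩ := IsArtinian.monotone_stabilizes
    (⟨fun k => OrderDual.toDual (m ^ k • (⊤ : Submodule R (Y ⧸ LinearMap.range f))),
      fun a b h => Submodule.smul_mono_left (Ideal.pow_le_pow_right h)⟩ : ℕ →o (Submodule R (Y ⧸ LinearMap.range f))ᵒᵈ)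
  have hk0 : m ^ k • (⊤ : Submodule R (Y ⧸ LinearMap.range f)) = ⊥ := by
    refine Submodule.eq_bot_of_le_smul_of_le_jacobson_bot m _ (IsNoetherian.noetherian _) ?_
      (IsLocalRing.maximalIdeal_le_jacobson _)
    have h1 : m ^ k • (⊤ : Submodule R (Y ⧸ LinearMap.range f)) = m ^ (k + 1) • ⊤ :=
      OrderDual.toDual.injective (hk (k + 1) k.le_succ)
    conv_lhs => rw [h1, pow_succ', Submodule.mul_smul]
  obtain ⟨c, hcm, hc0⟩ := (Submodule.ne_bot_iff _).mp (pow_ne_zero k hnf : m ^ k ≠ 0)
  have hmem : ∀ y, c • y ∈ LinearMap.range f := fun y => by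
    rw [← Submodule.Quotient.mk_eq_zero, Submodule.Quotient.mk_smul, ← Submodule.mem_bot R, ← hk0]
    exact Submodule.smul_mem_smul hcm trivial
  let e := LinearEquiv.ofInjective f hf
  let h : Y →ₗ[R] X := e.symm.toLinearMap ∘ₗ (c • LinearMap.id : Y →ₗ[R] Y).codRestrict _ hmem
  have h1 : ∀ y, f (h y) = c • y := fun y => congrArg Subtype.val (e.apply_symm_apply ⟨c • y, hmem y⟩)
  exact ⟨c, hc0, h, LinearMap.ext h1, LinearMap.ext fun x => hf (by
    simpa using h1 (f x))⟩

end Groth.Agent.TFCurvTorLib
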